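import Mathlib
import Groth.Agent.AssPointLib.Push
import Groth.Agent.FlatLib.SchemeFlat

/-!
# Flatness over a dense open of a reduced base with quasi-compact set of maximal points
-/

set_option autoImplicit false

universe u

open CategoryTheory AlgebraicGeometry TopologicalSpace

noncomputable section

namespace SubtrBlowLib

variable {X Y : Scheme.{u}}

theorem primeIdealOf_mem_minimalPrimes {W : Y.Opens} (hW : IsAffineOpen W) {y : Y} (hy : y ∈ W)
    (hmax : ∀ y' : Y, y' ⤳ y → y' = y) : (hW.primeIdealOf ⟨y, hy⟩).asIdeal ∈ minimalPrimes Γ(Y, W) := by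
  refine ⟨⟨(hW.primeIdealOf ⟨y, hy⟩).2, bot_le⟩, fun q hq hle => ?_⟩
  have h := hmax (hW.fromSpec ⟨q, hq.1⟩) (by
    have h1 := ((PrimeSpectrum.le_iff_specializes ⟨q, hq.1⟩ _).1 hle).map hW.fromSpec.continuous
    rwa [hW.fromSpec_primeIdealOf] at h1)
  have h2 : (⟨q, hq.1⟩ : PrimeSpectrum Γ(Y, W)) = hW.primeIdealOf ⟨y, hy⟩ :=
    hW.fromSpec.isEmbedding.injective (h.trans (hW.fromSpec_primeIdealOf ⟨y, hy⟩).symm)
  exact (congrArg PrimeSpectrum.asIdeal h2).ge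

theorem isField_stalk [IsReduced Y] {y : Y} (hmax : ∀ y' : Y, y' ⤳ y → y' = y) :
    IsField (Y.presheaf.stalk y) := by
  obtain ⟨W, hW, hy, -⟩ := exists_isAffineOpen_mem_and_subset (x := y) (U := ⊤) trivial
  letI := Y.presheaf.algebra_section_stalk (⟨y, hy⟩ : W)
  haveI : IsLocalization.AtPrime (Y.presheaf.stalk y) (hW.primeIdealOf ⟨y, hy⟩).asIdeal :=
    hW.isLocalization_stalk ⟨y, hy⟩
  haveI := Ring.KrullDimLE.of_isLocalization (hW.primeIdealOf ⟨y, hy⟩).asIdeal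
    (primeIdealOf_mem_minimalPrimes hW hy hmax) (Y.presheaf.stalk y)
  exact Ring.KrullDimLE.isField_of_isReduced

theorem flat_stalkMap_of_isField (f : X ⟶ Y) (x : X) (h : IsField (Y.presheaf.stalk (f x))) :
    (f.stalkMap x).hom.Flat := by
  letI := h.toField
  letI := (f.stalkMap x).hom.toAlgebra
  exact Module.Flat.of_free

/-- near a maximal point, a closed set with no point over it -/
theorem exists_open_avoid (f : X ⟶ Y) [QuasiCompact f] {Z : Set X} (hZ : IsClosed Z) {y : Y}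
    (hmax : ∀ y' : Y, y' ⤳ y → y' = y) (h : ∀ x ∈ Z, f x ≠ y) :
    ∃ U : Y.Opens, IsAffineOpen U ∧ y ∈ U ∧ ∀ x ∈ Z, f x ∉ U := by
  classical
  obtain ⟨W, hW, hy, -⟩ := exists_isAffineOpen_mem_and_subset (x := y) (U := ⊤) trivial
  have hmin := primeIdealOf_mem_minimalPrimes hW hy hmax
  haveI := hmin.1.1
  choose V hV hxV hVW using fun x : (f ⁻¹ᵁ W : X.Opens) =>
    exists_isAffineOpen_mem_and_subset (x := (x : X)) (U := f ⁻¹ᵁ W) x.2
  obtain ⟨t, ht⟩ := (f.isCompact_preimage hW.isCompact).elim_finite_subcover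
    (fun x => (V x : Set X)) (fun x => (V x).2) fun x hx => Set.mem_iUnion.2 ⟨⟨x, hx⟩, hxV ⟨x, hx⟩⟩
  have key : ∀ x, ∃ r, r ∉ (hW.primeIdealOf ⟨y, hy⟩).asIdeal ∧
      ∀ Q : PrimeSpectrum Γ(X, V x), (f.appLE W (V x) (hVW x)).hom r ∉ Q.asIdeal → (hV x).fromSpec Q ∉ Z := by
    intro x
    let φ := (f.appLE W (V x) (hVW x)).hom
    obtain ⟨I, hI⟩ := (PrimeSpectrum.isClosed_iff_zeroLocus_ideal _).1 (hZ.preimage (hV x).fromSpec.continuous)
    have hI' : ∀ Q : PrimeSpectrum Γ(X, V x), (hV x).fromSpec Q ∈ Z ↔ I ≤ Q.asIdeal := fun Q =>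
      (Set.ext_iff.1 hI Q).trans Iff.rfl
    by_contra! hne
    have hdisj : Disjoint (I : Set Γ(X, V x))
        (((hW.primeIdealOf ⟨y, hy⟩).asIdeal.primeCompl).map φ : Set Γ(X, V x)) := by
      rw [Set.disjoint_left]
      rintro b hb ⟨r, hr, rfl⟩
      obtain ⟨Q, hQ, hQZ⟩ := hne r hr
      exact hQ ((hI' Q).1 hQZ hb)
    obtain ⟨Q, hQ, hIQ, hQd⟩ := Ideal.exists_le_prime_disjoint I _ hdisj
    have hle : Q.comap φ ≤ (hW.primeIdealOf ⟨y, hy⟩).asIdeal := fun r hr => by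
      by_contra hrp
      exact Set.disjoint_left.1 hQd hr ⟨r, hrp, rfl⟩
    have heq : Q.comap φ = (hW.primeIdealOf ⟨y, hy⟩).asIdeal :=
      le_antisymm hle (hmin.2 ⟨hQ.comap φ, bot_le⟩ hle)
    refine h _ ((hI' ⟨Q, hQ⟩).2 hIQ) ?_
    rw [AssPointLib.apply_fromSpec f hW (hV x) (hVW x)]
    exact (congrArg hW.fromSpec (PrimeSpectrum.ext heq)).trans (hW.fromSpec_primeIdealOf ⟨y, hy⟩)
  choose r hr hrZ using key
  refine ⟨Y.basicOpen (∏ x ∈ t, r x), hW.basicOpen _, ?_, fun z hz hfz => ?_⟩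
  · rw [AssPointLib.mem_basicOpen_iff hW hy]
    intro hmem
    obtain ⟨x, -, hx⟩ := (hW.primeIdealOf ⟨y, hy⟩).2.prod_mem_iff.1 hmem
    exact hr x hx
  · obtain ⟨x, hx, hzx⟩ := Set.mem_iUnion₂.1 (ht (Y.basicOpen_le _ hfz))
    obtain ⟨Q, rfl⟩ : z ∈ Set.range (hV x).fromSpec := by rw [(hV x).range_fromSpec]; exact hzx
    refine hrZ x Q (fun hmem => ?_) hz
    rw [AssPointLib.apply_fromSpec f hW (hV x) (hVW x)] at hfz
    change _ ∈ hW.fromSpec ⁻¹ᵁ Y.basicOpen _ at hfz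
    rw [hW.fromSpec_preimage_basicOpen] at hfz
    refine hfz ?_
    rw [PrimeSpectrum.comap_asIdeal, Ideal.mem_comap, map_prod]
    exact Ideal.prod_mem (I := Q.asIdeal) hx hmem

theorem exists_dense_open_flat [IsReduced Y] [CompactSpace Y] [QuasiSeparatedSpace Y]
    (hgen : IsCompact {y : Y | ∀ y' : Y, y' ⤳ y → y' = y})
    (f : X ⟶ Y) [LocallyOfFinitePresentation f] [QuasiCompact f] :
    ∃ U : Y.Opens, Dense (U : Set Y) ∧ IsCompact (U : Set Y) ∧ Flat (f ∣_ U) := by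
  classical
  have hZ : IsClosed {x : X | (f.stalkMap x).hom.Flat}ᶜ := (FlatLib.isOpen_setOf_flat_stalkMap f).isClosed_compl
  choose U hU hyU hUZ using fun y : {y : Y | ∀ y' : Y, y' ⤳ y → y' = y} =>
    exists_open_avoid f hZ y.2 fun x hx hfx => hx (flat_stalkMap_of_isField f x
      (isField_stalk (by rw [hfx]; exact y.2)))
  obtain ⟨t, ht⟩ := hgen.elim_finite_subcover (fun y => (U y : Set Y)) (fun y => (U y).2)
    fun y hy => Set.mem_iUnion.2 ⟨⟨y, hy⟩, hyU ⟨y, hy⟩⟩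
  refine ⟨t.sup U, ?_, ?_, ?_⟩
  · refine dense_iff_inter_open.2 fun O hO ⟨z, hz⟩ => ?_
    obtain ⟨W, hW, hzW, hWO⟩ := exists_isAffineOpen_mem_and_subset (x := z) (U := ⟨O, hO⟩) hz
    obtain ⟨p, hp, hle⟩ := Ideal.exists_minimalPrimes_le (bot_le : (⊥ : Ideal Γ(Y, W)) ≤ (hW.primeIdealOf ⟨z, hzW⟩).asIdeal)
    have hgenp : ∀ y' : Y, y' ⤳ hW.fromSpec ⟨p, hp.1.1⟩ → y' = hW.fromSpec ⟨p, hp.1.1⟩ := fun y' hy' => by
      have hy'W : y' ∈ W := hy'.mem_open W.2 (AssPointLib.fromSpec_mem hW _)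
      obtain ⟨q, rfl⟩ : y' ∈ Set.range hW.fromSpec := by rw [hW.range_fromSpec]; exact hy'W
      refine congrArg hW.fromSpec (PrimeSpectrum.ext (le_antisymm ?_ ?_))
      · exact (PrimeSpectrum.le_iff_specializes _ _).2 (hW.fromSpec.isEmbedding.isInducing.specializes_iff.1 hy')
      · exact hp.2 ⟨q.2, bot_le⟩
          ((PrimeSpectrum.le_iff_specializes _ _).2 (hW.fromSpec.isEmbedding.isInducing.specializes_iff.1 hy'))
    obtain ⟨y, hyt, hpy⟩ := Set.mem_iUnion₂.1 (ht hgenp)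
    exact ⟨_, hWO (AssPointLib.fromSpec_mem hW _), (Finset.le_sup hyt : U y ≤ _) hpy⟩
  · rw [TopologicalSpace.Opens.coe_finset_sup]
    exact Finset.sup_induction isCompact_empty (fun a ha b hb => ha.union hb) fun y _ => (hU y).isCompact
  · rw [Flat.iff_flat_stalkMap]
    intro x
    refine (RingHom.Flat.respectsIso.arrow_mk_iso_iff (morphismRestrictStalkMap f _ x)).2 ?_
    by_contra hne
    obtain ⟨y, hyt, hy⟩ : ∃ y ∈ t, f x.1 ∈ U y := by
      have h2 : f x.1 ∈ ((t.sup U : Y.Opens) : Set Y) := x.2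
      rw [TopologicalSpace.Opens.coe_finset_sup, Finset.sup_eq_iSup] at h2
      simpa using h2
    exact hUZ y _ hne hy

end SubtrBlowLib

end
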