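import Mathlib

/-!
# Lifting pairs of primes over polynomial rings: finitely many variables suffice
-/

set_option autoImplicit false

universe u

open MvPolynomial

noncomputable section

namespace SubtrBlowLib

variable {A C : Type u} [CommRing A] [CommRing C] (φ : A →+* C)

/-- pairs of primes of `A[τ]` lift to `C[τ]` -/
def LiftsPairs (τ : Type u) : Prop :=
  ∀ q' q : Ideal (MvPolynomial τ A), q'.IsPrime → q.IsPrime → q' ≤ q →
    ∃ Q' Q : Ideal (MvPolynomial τ C), Q'.IsPrime ∧ Q.IsPrime ∧ Q' ≤ Q ∧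
      Q'.comap (MvPolynomial.map φ) = q' ∧ Q.comap (MvPolynomial.map φ) = q

theorem liftsPairs_of_equiv {τ τ' : Type u} (ε : τ ≃ τ') (h : LiftsPairs φ τ) : LiftsPairs φ τ' := by
  intro q' q hq' hq hle
  obtain ⟨Q', Q, hQ', hQ, hQle, h', h''⟩ :=
    h (q'.comap (rename ε : MvPolynomial τ A →ₐ[A] _).toRingHom) (q.comap (rename ε : MvPolynomial τ A →ₐ[A] _).toRingHom)
      (Ideal.IsPrime.comap _) (Ideal.IsPrime.comap _) (Ideal.comap_mono hle)
  refine ⟨Q'.comap (rename ε.symm : MvPolynomial τ' C →ₐ[C] _).toRingHom,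
    Q.comap (rename ε.symm : MvPolynomial τ' C →ₐ[C] _).toRingHom, Ideal.IsPrime.comap _, Ideal.IsPrime.comap _,
    Ideal.comap_mono hQle, ?_, ?_⟩
  · ext a
    have := congrArg (rename ε.symm a ∈ ·) h'
    simpa [Ideal.mem_comap, map_rename, rename_rename] using this
  · ext a
    have := congrArg (rename ε.symm a ∈ ·) h''
    simpa [Ideal.mem_comap, map_rename, rename_rename] using this

variable {σ : Type u}

/-- `e` is in the extension of `q` within finitely many variables -/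
def InFin (q : Ideal (MvPolynomial σ A)) (t : Finset σ) (e : MvPolynomial σ C) : Prop :=
  ∃ b : MvPolynomial t C, rename Subtype.val b = e ∧
    b ∈ (q.comap (rename Subtype.val : MvPolynomial t A →ₐ[A] _).toRingHom).map (MvPolynomial.map φ)

theorem inFin_mono {q : Ideal (MvPolynomial σ A)} {t t' : Finset σ} (h : t ⊆ t') {e : MvPolynomial σ C}
    (he : InFin φ q t e) : InFin φ q t' e := by
  obtain ⟨b, rfl, hb⟩ := he
  let j : t → t' := fun x => ⟨x.1, h x.2⟩
  refine ⟨rename j b, by rw [rename_rename]; rfl, ?_⟩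
  have : (q.comap (rename Subtype.val : MvPolynomial t A →ₐ[A] _).toRingHom).map (MvPolynomial.map φ) ≤
      ((q.comap (rename Subtype.val : MvPolynomial t' A →ₐ[A] _).toRingHom).map (MvPolynomial.map φ)).comap
        (rename j : MvPolynomial t C →ₐ[C] _).toRingHom := by
    refine Ideal.map_le_iff_le_comap.2 fun a ha => ?_
    rw [Ideal.mem_comap, Ideal.mem_comap]
    change rename j (MvPolynomial.map φ a) ∈ _
    rw [← map_rename]
    refine Ideal.mem_map_of_mem _ ?_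
    rw [Ideal.mem_comap] at ha ⊢
    change rename Subtype.val (rename j a) ∈ q
    rw [rename_rename]
    exact ha
  exact this hb

theorem exists_rename_of_subset {R : Type u} [CommRing R] (p : MvPolynomial σ R) :
    ∃ t : Finset σ, ∀ t' : Finset σ, t ⊆ t' → ∃ p₀ : MvPolynomial t' R, rename Subtype.val p₀ = p := by
  obtain ⟨t, p₀, rfl⟩ := exists_finset_rename p
  exact ⟨t, fun t' h => ⟨rename (fun x => ⟨x.1, h x.2⟩) p₀, by rw [rename_rename]; rfl⟩⟩

theorem exists_inFin {q : Ideal (MvPolynomial σ A)} {e : MvPolynomial σ C} (he : e ∈ q.map (MvPolynomial.map φ)) :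
    ∃ t, InFin φ q t e := by
  classical
  induction he using Submodule.span_induction with
  | mem e he =>
    obtain ⟨a, ha, rfl⟩ := he
    obtain ⟨t, a₀, rfl⟩ := exists_finset_rename a
    exact ⟨t, MvPolynomial.map φ a₀, (map_rename _ _ _).symm, Ideal.mem_map_of_mem _ ha⟩
  | zero => exact ⟨∅, 0, map_zero _, zero_mem _⟩
  | add x y _ _ hx hy =>
    obtain ⟨t, ht⟩ := hx
    obtain ⟨t', ht'⟩ := hy
    obtain ⟨b, rfl, hb⟩ := inFin_mono φ (Finset.subset_union_left (s₂ := t')) ht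
    obtain ⟨b', rfl, hb'⟩ := inFin_mono φ (Finset.subset_union_right (s₁ := t)) ht'
    exact ⟨t ∪ t', b + b', map_add _ _ _, add_mem hb hb'⟩
  | smul c x _ hx =>
    obtain ⟨t, ht⟩ := hx
    obtain ⟨tc, hc⟩ := exists_rename_of_subset c
    obtain ⟨b, rfl, hb⟩ := inFin_mono φ (Finset.subset_union_left (s₂ := tc)) ht
    obtain ⟨c₀, rfl⟩ := hc (t ∪ tc) Finset.subset_union_right
    exact ⟨t ∪ tc, c₀ * b, map_mul _ _ _, Ideal.mul_mem_left _ _ hb⟩

/-- finitely many variables suffice -/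
theorem liftsPairs_of_finite [Nonempty σ] (H : ∀ n : ℕ, LiftsPairs φ (ULift.{u} (Fin (n + 1)))) :
    LiftsPairs φ σ := by
  classical
  intro q' q hq' hq hle
  let ψ : MvPolynomial σ A →+* MvPolynomial σ C := MvPolynomial.map φ
  let J : Ideal (MvPolynomial σ C) :=
    { carrier := {k | ∃ r, r ∉ q' ∧ ψ r * k ∈ q'.map ψ}
      zero_mem' := ⟨1, (Ideal.ne_top_iff_one _).1 hq'.ne_top, by simp⟩
      add_mem' := by
        rintro a b ⟨r, hr, h⟩ ⟨r₁, hr₁, h₁⟩
        refine ⟨r * r₁, fun hm => (hq'.mem_or_mem hm).elim hr hr₁, ?_⟩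
        have : ψ (r * r₁) * (a + b) = ψ r₁ * (ψ r * a) + ψ r * (ψ r₁ * b) := by rw [map_mul]; ring
        rw [this]
        exact add_mem (Ideal.mul_mem_left _ _ h) (Ideal.mul_mem_left _ _ h₁)
      smul_mem' := by
        rintro c a ⟨r, hr, h⟩
        exact ⟨r, hr, by rw [smul_eq_mul, mul_left_comm]; exact Ideal.mul_mem_left _ _ h⟩ }
  have hdisj : Disjoint (↑(J ⊔ q.map ψ) : Set (MvPolynomial σ C)) (q.primeCompl.map ψ : Set (MvPolynomial σ C)) := by
    rw [Set.disjoint_left]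
    rintro x hx ⟨s, hs, rfl⟩
    obtain ⟨k, hk, e, he, hke⟩ := Submodule.mem_sup.1 hx
    obtain ⟨r, hr, hrk⟩ := hk
    obtain ⟨t₁, ht₁⟩ := exists_inFin φ hrk
    obtain ⟨t₂, ht₂⟩ := exists_inFin φ he
    obtain ⟨tr, hr₀⟩ := exists_rename_of_subset r
    obtain ⟨ts, hs₀⟩ := exists_rename_of_subset s
    obtain ⟨tk, hk₀⟩ := exists_rename_of_subset k
    obtain ⟨a₀⟩ := ‹Nonempty σ›
    let t := insert a₀ (t₁ ∪ t₂ ∪ (tr ∪ ts ∪ tk))
    have hsub : t₁ ⊆ t ∧ t₂ ⊆ t ∧ tr ⊆ t ∧ ts ⊆ t ∧ tk ⊆ t := by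
      refine ⟨?_, ?_, ?_, ?_, ?_⟩ <;> intro a ha <;> simp [t, ha]
    obtain ⟨b₁, hb₁, hb₁'⟩ := inFin_mono φ hsub.1 ht₁
    obtain ⟨b₂, hb₂, hb₂'⟩ := inFin_mono φ hsub.2.1 ht₂
    obtain ⟨r₀, rfl⟩ := hr₀ t hsub.2.2.1
    obtain ⟨s₀, rfl⟩ := hs₀ t hsub.2.2.2.1
    obtain ⟨k₀, rfl⟩ := hk₀ t hsub.2.2.2.2
    have hinj : Function.Injective (rename (R := C) (Subtype.val : t → σ)) :=
      rename_injective _ Subtype.val_injective
    have e₁ : b₁ = MvPolynomial.map φ r₀ * k₀ := hinj (by rw [hb₁, map_mul, ← map_rename])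
    have e₂ : k₀ + b₂ = MvPolynomial.map φ s₀ := hinj (by rw [map_add, hb₂, ← map_rename]; exact hke)
    have hcard : (Fintype.card t - 1) + 1 = Fintype.card t :=
      Nat.sub_add_cancel (Fintype.card_pos_iff.2 ⟨⟨a₀, Finset.mem_insert_self _ _⟩⟩)
    obtain ⟨Q', Q, hQ', hQ, hQle, h', h''⟩ :=
      liftsPairs_of_equiv φ (Equiv.ulift.trans ((finCongr hcard).trans (Fintype.equivFin t).symm))
        (H (Fintype.card t - 1))
        (q'.comap (rename Subtype.val : MvPolynomial t A →ₐ[A] _).toRingHom)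
        (q.comap (rename Subtype.val : MvPolynomial t A →ₐ[A] _).toRingHom)
        (Ideal.IsPrime.comap _) (Ideal.IsPrime.comap _) (Ideal.comap_mono hle)
    have hr' : MvPolynomial.map φ r₀ ∉ Q' := fun hm => hr (h'.le hm)
    have hk' : k₀ ∈ Q := hQle ((hQ'.mem_or_mem (show MvPolynomial.map φ r₀ * k₀ ∈ Q' from
      e₁ ▸ Ideal.map_le_iff_le_comap.2 h'.ge hb₁')).resolve_left hr')
    exact hs (h''.le (show MvPolynomial.map φ s₀ ∈ Q from
      e₂ ▸ add_mem hk' (Ideal.map_le_iff_le_comap.2 h''.ge hb₂')))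
  obtain ⟨Q, hQ, hJQ, hQd⟩ := Ideal.exists_le_prime_disjoint _ _ hdisj
  haveI := hQ
  have hQq : Q.comap ψ = q := le_antisymm
    (fun a ha => by_contra fun haq => Set.disjoint_left.1 hQd ha ⟨a, haq, rfl⟩)
    (fun a ha => hJQ (Ideal.mem_sup_right (Ideal.mem_map_of_mem _ ha)))
  have hdisj' : Disjoint (↑(q'.map ψ) : Set (MvPolynomial σ C))
      (↑(Q.primeCompl ⊔ q'.primeCompl.map ψ) : Set (MvPolynomial σ C)) := by
    rw [Set.disjoint_left]
    rintro x hx hx'
    obtain ⟨c, hc, _, ⟨r, hr, rfl⟩, rfl⟩ := Submonoid.mem_sup.1 hx'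
    exact hc (hJQ (Ideal.mem_sup_left ⟨r, hr, by rw [mul_comm]; exact hx⟩))
  obtain ⟨Q', hQ', hle', hQd'⟩ := Ideal.exists_le_prime_disjoint _ _ hdisj'
  refine ⟨Q', Q, hQ', hQ, fun a ha => by_contra fun haQ => ?_, le_antisymm (fun a ha => by_contra fun haq => ?_)
    (Ideal.map_le_iff_le_comap.1 hle'), hQq⟩
  · exact Set.disjoint_left.1 hQd' ha (Submonoid.mem_sup_left haQ)
  · exact Set.disjoint_left.1 hQd' ha (Submonoid.mem_sup_right ⟨a, haq, rfl⟩)

end SubtrBlowLib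

end
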