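import Mathlib
import Groth.Agent.SubtrBlowLib.PolyPairs
import Groth.Prelude.Def_W4c2submetdescSubtr

/-!
# Affine spaces test universal S-subtrusiveness of quasi-compact morphisms
-/

set_option autoImplicit false

universe u

open CategoryTheory CategoryTheory.Limits AlgebraicGeometry TopologicalSpace

noncomputable section

namespace SubtrBlowLib

variable {X Y : Scheme.{u}}

/-- pairs of points of the target lift along an embedded base change -/
theorem sSubtrusive_of_isPullback {X₁ Y₁ X₂ Y₂ : Scheme.{u}} {f₁ : X₁ ⟶ Y₁} {f₂ : X₂ ⟶ Y₂} {i : X₂ ⟶ X₁}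
    {h : Y₂ ⟶ Y₁} (sq : IsPullback i f₂ f₁ h) [IsPreimmersion h] (H : Subtr.IsSSubtrusive f₁) :
    Subtr.IsSSubtrusive f₂ := by
  intro y y' hy
  obtain ⟨x, x', hx, hfx, hfx'⟩ := H (hy.map h.continuous)
  obtain ⟨w, rfl, rfl⟩ := AlgebraicGeometry.Scheme.exists_preimage_of_isPullback sq x y hfx
  obtain ⟨w', rfl, rfl⟩ := AlgebraicGeometry.Scheme.exists_preimage_of_isPullback sq x' y' hfx'
  haveI : IsPreimmersion i := MorphismProperty.of_isPullback sq.flip ‹IsPreimmersion h›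
  exact ⟨w, w', i.isEmbedding.isInducing.specializes_iff.1 hx, rfl, rfl⟩

theorem isPullback_lift {Z Z' : Scheme.{u}} (f : X ⟶ Y) (g' : Z' ⟶ Y) (g : Z ⟶ Y) (h : Z' ⟶ Z) (hh : h ≫ g = g') :
    IsPullback (pullback.lift (pullback.fst f g') (pullback.snd f g' ≫ h)
      (by rw [Category.assoc, hh]; exact pullback.condition)) (pullback.snd f g') (pullback.snd f g) h :=
  IsPullback.of_right (by rw [pullback.lift_fst, hh]; exact IsPullback.of_hasPullback f g')
    (pullback.lift_snd _ _ _) (IsPullback.of_hasPullback f g)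

/-- composing with a flat surjective morphism -/
theorem sSubtrusive_comp {Z : Scheme.{u}} (e : Z ⟶ X) [Flat e] [Surjective e] (f : X ⟶ Y)
    (H : Subtr.IsSSubtrusive f) : Subtr.IsSSubtrusive (e ≫ f) := by
  intro y y' hy
  obtain ⟨x, x', hx, rfl, rfl⟩ := H hy
  obtain ⟨z, rfl⟩ := e.surjective x
  obtain ⟨z', hz, rfl⟩ := Flat.generalizingMap e hx
  exact ⟨z, z', hz, Scheme.Hom.comp_apply _ _ z, Scheme.Hom.comp_apply _ _ z'⟩

theorem sSubtrusive_of_comp {Z : Scheme.{u}} (e : Z ⟶ X) (f : X ⟶ Y) (H : Subtr.IsSSubtrusive (e ≫ f)) :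
    Subtr.IsSSubtrusive f := by
  intro y y' hy
  obtain ⟨z, z', hz, h₁, h₂⟩ := H hy
  rw [Scheme.Hom.comp_apply] at h₁ h₂
  exact ⟨e z, e z', hz.map e.continuous, h₁, h₂⟩

/-- a flat surjective cover of the preimage of an affine open by an affine scheme -/
theorem exists_affine_chart (f : X ⟶ Y) [QuasiCompact f] {W : Y.Opens} (hW : IsAffineOpen W) :
    ∃ (C : CommRingCat.{u}) (η : Spec C ⟶ X) (φ : Γ(Y, W) ⟶ C),
      Flat η ∧ Set.range η = f ⁻¹' (W : Set Y) ∧ η ≫ f = Spec.map φ ≫ hW.fromSpec := by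
  haveI : CompactSpace (f ⁻¹ᵁ W).toScheme := isCompact_iff_compactSpace.1 (f.isCompact_preimage hW.isCompact)
  let 𝒰 := (f ⁻¹ᵁ W).toScheme.affineCover.finiteSubcover
  let p : (∐ fun i : 𝒰.I₀ => 𝒰.X i) ⟶ (f ⁻¹ᵁ W).toScheme := Sigma.desc (fun i => 𝒰.f i)
  haveI : Flat p := IsZariskiLocalAtSource.sigmaDesc fun i => inferInstance
  haveI : Surjective p := inferInstanceAs (Surjective (Sigma.desc 𝒰.f))
  haveI : IsAffine W.toScheme := hW
  let η₀ := (∐ fun i : 𝒰.I₀ => 𝒰.X i).isoSpec.inv ≫ p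
  obtain ⟨φ, hφ⟩ := Spec.map_surjective (η₀ ≫ (f ∣_ W) ≫ hW.isoSpec.hom)
  refine ⟨_, η₀ ≫ (f ⁻¹ᵁ W).ι, φ, inferInstance, ?_, ?_⟩
  · rw [Scheme.Hom.comp_base, TopCat.coe_comp, Set.range_comp, η₀.surjective.range_eq, Set.image_univ,
      Scheme.Opens.range_ι]
    rfl
  · rw [hφ]
    simp only [Category.assoc]
    erw [IsAffineOpen.isoSpec_hom_fromSpec, morphismRestrict_ι]

theorem isPullback_poly {A C : CommRingCat.{u}} (φ : A ⟶ C) (σ : Type u) :
    IsPullback (Spec.map (CommRingCat.ofHom (MvPolynomial.C (R := C) (σ := σ))))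
      (Spec.map (CommRingCat.ofHom (MvPolynomial.map (σ := σ) φ.hom))) (Spec.map φ)
      (Spec.map (CommRingCat.ofHom (MvPolynomial.C (R := A) (σ := σ)))) := by
  algebraize [φ.hom]
  letI := MvPolynomial.algebraMvPolynomial (R := A) (S := C) (σ := σ)
  exact isPullback_SpecMap_of_isPushout _ _ _ _
    (CommRingCat.isPushout_of_isPushout A C (MvPolynomial σ A) (MvPolynomial σ C))

theorem liftsPairs_of_sSubtrusive {A C : CommRingCat.{u}} (φ : A ⟶ C) {σ : Type u}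
    (H : Subtr.IsSSubtrusive (Spec.map (CommRingCat.ofHom (MvPolynomial.map (σ := σ) φ.hom)))) :
    LiftsPairs φ.hom σ := fun q' q hq' hq hle => by
  obtain ⟨Q, Q', hQ, h, h'⟩ := H (y := ⟨q, hq⟩) (y' := ⟨q', hq'⟩) ((PrimeSpectrum.le_iff_specializes _ _).1 hle)
  exact ⟨Q'.asIdeal, Q.asIdeal, Q'.2, Q.2, (PrimeSpectrum.le_iff_specializes Q' Q).2 hQ,
    congrArg PrimeSpectrum.asIdeal h', congrArg PrimeSpectrum.asIdeal h⟩

theorem sSubtrusive_of_liftsPairs {A C : CommRingCat.{u}} (φ : A ⟶ C) {σ : Type u} (H : LiftsPairs φ.hom σ) :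
    Subtr.IsSSubtrusive (Spec.map (CommRingCat.ofHom (MvPolynomial.map (σ := σ) φ.hom))) := fun q q' hle => by
  obtain ⟨Q', Q, hQ', hQ, hle', h', h⟩ :=
    H q'.asIdeal q.asIdeal q'.2 q.2 ((PrimeSpectrum.le_iff_specializes q' q).2 hle)
  exact ⟨⟨Q, hQ⟩, ⟨Q', hQ'⟩, (PrimeSpectrum.le_iff_specializes _ _).1 hle', PrimeSpectrum.ext h, PrimeSpectrum.ext h'⟩

theorem univSSubtrusive_iff_affineSpace (f : X ⟶ Y) [QuasiCompact f] :
    Subtr.UnivSSubtrusive f ↔
      ∀ n : ℕ, 0 < n → Subtr.IsSSubtrusive (pullback.snd f (AffineSpace (ULift.{u} (Fin n)) Y ↘ Y)) := by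
  refine ⟨fun h n _ => h _ _ _ (IsPullback.of_hasPullback f _).flip, fun H X' Y' i₁ i₂ f' sq y y' hy => ?_⟩
  obtain ⟨W, hW, hyW, -⟩ := exists_isAffineOpen_mem_and_subset (x := i₂ y) (U := ⊤) trivial
  obtain ⟨V, hV, hyV, e⟩ := exists_isAffineOpen_mem_and_subset (x := y) (U := i₂ ⁻¹ᵁ W) hyW
  obtain ⟨C, η, φ, hη, hrange, hηf⟩ := exists_affine_chart f hW
  -- the fibre product over `W[σ]` and its flat surjective cover
  have cover : ∀ σ : Type u, ∃ e : Spec (CommRingCat.of (MvPolynomial σ C)) ⟶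
      pullback f (Spec.map (CommRingCat.ofHom (MvPolynomial.C (R := Γ(Y, W)) (σ := σ))) ≫ hW.fromSpec),
      Flat e ∧ Surjective e ∧ e ≫ pullback.snd _ _ = Spec.map (CommRingCat.ofHom (MvPolynomial.map (σ := σ) φ.hom)) := by
    intro σ
    let g := Spec.map (CommRingCat.ofHom (MvPolynomial.C (R := Γ(Y, W)) (σ := σ))) ≫ hW.fromSpec
    have sq1 : IsPullback (Spec.map (CommRingCat.ofHom (MvPolynomial.C (R := C) (σ := σ))))
        (Spec.map (CommRingCat.ofHom (MvPolynomial.map (σ := σ) φ.hom))) (η ≫ f) g := by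
      rw [hηf]
      have h0 := ((isPullback_poly φ σ).flip.paste_vert (IsPullback.of_vert_isIso_mono (fst := Spec.map φ)
        (snd := 𝟙 (Spec C)) (f := hW.fromSpec) (g := Spec.map φ ≫ hW.fromSpec) ⟨by simp⟩)).flip
      erw [Category.comp_id] at h0
      exact h0
    let e := pullback.lift (Spec.map (CommRingCat.ofHom (MvPolynomial.C (R := C) (σ := σ))) ≫ η)
      (Spec.map (CommRingCat.ofHom (MvPolynomial.map (σ := σ) φ.hom))) (by rw [Category.assoc]; exact sq1.w)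
    have sq2 : IsPullback (Spec.map (CommRingCat.ofHom (MvPolynomial.C (R := C) (σ := σ)))) e η (pullback.fst f g) :=
      IsPullback.of_bot (by rw [pullback.lift_snd]; exact sq1) (pullback.lift_fst _ _ _).symm
        (IsPullback.of_hasPullback f g)
    refine ⟨e, MorphismProperty.of_isPullback sq2 hη, ⟨fun w => ?_⟩, pullback.lift_snd _ _ _⟩
    have hw : pullback.fst f g w ∈ Set.range η := by
      rw [hrange, Set.mem_preimage, ← Scheme.Hom.comp_apply, pullback.condition, Scheme.Hom.comp_apply]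
      exact hW.range_fromSpec.le ⟨_, rfl⟩
    obtain ⟨c, hc⟩ := hw
    obtain ⟨z, -, hz⟩ := AlgebraicGeometry.Scheme.exists_preimage_of_isPullback sq2 c w hc
    exact ⟨z, hz⟩
  -- finitely many variables
  have hfin : ∀ n : ℕ, LiftsPairs φ.hom (ULift.{u} (Fin (n + 1))) := fun n => by
    obtain ⟨e, he₁, he₂, he₃⟩ := cover (ULift.{u} (Fin (n + 1)))
    refine liftsPairs_of_sSubtrusive φ (he₃ ▸ @sSubtrusive_comp _ _ _ e he₁ he₂ _ ?_)
    let h := (AffineSpace.SpecIso (ULift.{u} (Fin (n + 1))) Γ(Y, W)).inv ≫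
      AffineSpace.map (ULift.{u} (Fin (n + 1))) hW.fromSpec
    haveI : IsOpenImmersion (AffineSpace.map (ULift.{u} (Fin (n + 1))) hW.fromSpec) :=
      MorphismProperty.of_isPullback (AffineSpace.isPullback_map hW.fromSpec).flip inferInstance
    have hh : h ≫ (AffineSpace (ULift.{u} (Fin (n + 1))) Y ↘ Y) =
        Spec.map (CommRingCat.ofHom (MvPolynomial.C (R := Γ(Y, W)) (σ := ULift.{u} (Fin (n + 1))))) ≫ hW.fromSpec := by
      simp [h]
    exact sSubtrusive_of_isPullback (isPullback_lift f _ _ h hh) (H (n + 1) n.succ_pos)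
  -- all sections as variables
  haveI : Nonempty Γ(Y', V) := ⟨0⟩
  obtain ⟨e', -, -, he'⟩ := cover Γ(Y', V)
  have hbig := sSubtrusive_of_comp e' _ (he' ▸ sSubtrusive_of_liftsPairs φ (liftsPairs_of_finite φ.hom hfin))
  let π : CommRingCat.of (MvPolynomial Γ(Y', V) Γ(Y, W)) ⟶ Γ(Y', V) :=
    CommRingCat.ofHom (MvPolynomial.eval₂Hom (i₂.appLE W V e).hom id)
  haveI : IsClosedImmersion (Spec.map π) :=
    IsClosedImmersion.spec_of_surjective _ fun b => ⟨MvPolynomial.X b, MvPolynomial.eval₂_X _ _ _⟩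
  have hπ : Spec.map π ≫ Spec.map (CommRingCat.ofHom (MvPolynomial.C (R := Γ(Y, W)) (σ := Γ(Y', V)))) ≫
      hW.fromSpec = hV.fromSpec ≫ i₂ := by
    rw [← Category.assoc, ← Spec.map_comp, ← IsAffineOpen.SpecMap_appLE_fromSpec i₂ hW hV e]
    congr 2
    ext a
    exact MvPolynomial.eval₂_C _ _ _
  obtain ⟨q, rfl⟩ : y ∈ Set.range hV.fromSpec := by rw [hV.range_fromSpec]; exact hyV
  obtain ⟨q', rfl⟩ : y' ∈ Set.range hV.fromSpec := by rw [hV.range_fromSpec]; exact hy.mem_open V.2 hyV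
  let g'' := hV.fromSpec ≫ i₂
  obtain ⟨w, w', hw, h₁, h₂⟩ := sSubtrusive_of_isPullback (isPullback_lift f g'' _ (Spec.map π) hπ) hbig
    (hV.fromSpec.isEmbedding.isInducing.specializes_iff.1 hy)
  let k := sq.flip.lift (pullback.fst f g'') (pullback.snd f g'' ≫ hV.fromSpec)
    (by rw [Category.assoc]; exact pullback.condition)
  refine ⟨k w, k w', hw.map k.continuous, ?_, ?_⟩
  · rw [← Scheme.Hom.comp_apply, IsPullback.lift_snd, Scheme.Hom.comp_apply, h₁]
  · rw [← Scheme.Hom.comp_apply, IsPullback.lift_snd, Scheme.Hom.comp_apply, h₂]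

end SubtrBlowLib

end
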