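import Mathlib
import Groth.Agent.SubtrBlowLib.GenericFlat
import Groth.Agent.RGFlatLib.Setup
import Groth.Agent.CurvLib.Divisor
import Groth.Agent.AlgSpLib.CodimZero
import Groth.Prelude.Def_W4c2submetdescSubtr

/-!
# A blow-up making the strict transform of a universally subtrusive morphism flat and surjective
-/

set_option autoImplicit false

universe u

open CategoryTheory AlgebraicGeometry TopologicalSpace

noncomputable section

namespace SubtrBlowLib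

variable {X Y : Scheme.{u}}

theorem exists_blowUp [IsReduced Y] [CompactSpace Y] [QuasiSeparatedSpace Y]
    (hgen : IsCompact {y : Y | ∀ y' : Y, y' ⤳ y → y' = y})
    (f : X ⟶ Y) [LocallyOfFinitePresentation f] [QuasiCompact f] [QuasiSeparated f]
    (hf : Subtr.UnivSSubtrusive f) :
    ∃ (U : Y.Opens) (𝓘 : Y.IdealSheafData) (Y' : Scheme.{u}) (b : Y' ⟶ Y),
      Dense (U : Set Y) ∧ IsCompact (U : Set Y) ∧ BlowUp.IsBlowUp b 𝓘 ∧ BlowUp.IsAdmissibleFor U 𝓘 ∧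
      Surjective b ∧
      ∀ (X' : Scheme.{u}) (p₁ : X' ⟶ X) (p₂ : X' ⟶ Y'), IsPullback p₁ p₂ f b →
      ∀ (𝒥 : X'.IdealSheafData),
        (∀ (V : X'.affineOpens) (a : Γ(X', V.1)), a ∈ 𝒥.ideal V ↔
          BlowUp.KilledByPowerNear ((𝓘.comap f).comap p₁) (Coh.structureModule X') V a) →
        Flat (𝒥.subschemeι ≫ p₂) ∧ Surjective (𝒥.subschemeι ≫ p₂) ∧
          LocallyOfFinitePresentation (𝒥.subschemeι ≫ p₂) ∧
          QuasiCompact (𝒥.subschemeι ≫ p₂) ∧ QuasiSeparated (𝒥.subschemeι ≫ p₂) := by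
  obtain ⟨U, hdense, hU, hflat⟩ := exists_dense_open_flat hgen f
  haveI := hflat
  obtain ⟨𝓘, Y', b, hb, hadm, hproper, hiso, hint, hF⟩ := RGFlatLib.exists_flattening_blowUp f U hU
  haveI := hproper
  haveI := hiso
  refine ⟨U, 𝓘, Y', b, hdense, hU, hb, hadm, ⟨fun y => ?_⟩, fun X' p₁ p₂ hpb 𝒥 h𝒥 => ?_⟩
  · have h1 : (U : Set Y) ⊆ Set.range b := fun u hu => by
      obtain ⟨z, hz⟩ := (b ∣_ U).surjective ⟨u, hu⟩
      refine ⟨z.1, ?_⟩
      rw [← morphismRestrict_base_coe, hz]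
    exact (b.isClosedMap.isClosed_range.closure_subset (closure_mono h1 (hdense y)))
  · obtain ⟨h1, h2, h3, h4, -⟩ := hF X' p₁ p₂ hpb 𝒥 h𝒥
    haveI := h4
    haveI : QuasiSeparated p₂ := MorphismProperty.of_isPullback hpb ‹QuasiSeparated f›
    refine ⟨h1, ⟨fun y => ?_⟩, h2, h3, inferInstance⟩
    obtain ⟨η, hηy, hmax⟩ := AlgSpLib.exists_maximal_generization y
    have hη : η ∈ b ⁻¹ᵁ U := by
      rw [← hint]
      change η ∉ ((𝓘.comap b).support : Set Y')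
      intro hmem
      obtain ⟨η', h', hne⟩ := CurvLib.exists_generization_of_mem hb.1 hmem
      exact hne (hmax η' h')
    obtain ⟨x, x', hxx, rfl, rfl⟩ := hf p₁ b p₂ hpb.flip hηy
    obtain ⟨w, hw⟩ := (𝒥.subschemeι ∣_ (p₂ ⁻¹ᵁ b ⁻¹ᵁ U)).surjective ⟨x', hη⟩
    have hx' : x' ∈ Set.range 𝒥.subschemeι := ⟨w.1, by rw [← morphismRestrict_base_coe, hw]⟩
    obtain ⟨v, rfl⟩ := hxx.mem_closed 𝒥.subschemeι.isClosedEmbedding.isClosed_range hx'
    exact ⟨v, Scheme.Hom.comp_apply _ _ v⟩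

end SubtrBlowLib

end
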